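import Mathlib
import Groth.Agent.JacobianLib.Basic
import Groth.Agent.FSmoothLocal.Basic
import Groth.Agent.FieldExtLib.Imperfection
import Groth.Agent.RegLocal.Basic
import Groth.Agent.S2471

/-!
A reduced algebra essentially of finite type over a perfect field with projective differentials is
formally smooth.
-/

set_option autoImplicit false
universe u

open IsLocalRing TensorProduct KaehlerDifferential

noncomputable section

namespace Groth.Agent.ReducedSmoothLib

/-- `1 ⊗ w = 0` in `S ⊗ M` only for `w ∈ I • M`, when `S = P/I`. -/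
theorem mem_smul_top_of_tmul_eq_zero {P S M : Type u} [CommRing P] [CommRing S] [Algebra P S] [AddCommGroup M]
    [Module P M] (hsurj : Function.Surjective (algebraMap P S)) {w : M} (hw : (1 : S) ⊗ₜ[P] w = 0) :
    w ∈ RingHom.ker (algebraMap P S) • (⊤ : Submodule P M) := by
  set I := RingHom.ker (algebraMap P S)
  let θ : (P ⧸ I) ≃ₐ[P] S := Ideal.quotientKerAlgEquivOfSurjective (f := Algebra.ofId P S) hsurj
  have h := congrArg ((quotTensorEquivQuotSMul M I).toLinearMap ∘ₗ
      (TensorProduct.congr θ.toLinearEquiv.symm (LinearEquiv.refl P M)).toLinearMap) hw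
  rw [map_zero, LinearMap.comp_apply, LinearEquiv.coe_coe, LinearEquiv.coe_coe, TensorProduct.congr_tmul,
    LinearEquiv.refl_apply, show θ.toLinearEquiv.symm 1 = 1 from map_one θ.symm,
    quotTensorEquivQuotSMul_mk_one_tmul] at h
  exact (Submodule.Quotient.mk_eq_zero _).1 h

variable {k P S : Type u} [Field k] [PerfectField k] [CommRing P] [IsLocalRing P] [IsNoetherianRing P]
  [Algebra k P] [CommRing S] [IsLocalRing S] [Algebra k S] [Algebra P S] [IsScalarTower k P S]

theorem formallySmooth_of_surjective [Algebra.FormallySmooth k P] [Module.Free P Ω[P⁄k]]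
    [Module.Finite P Ω[P⁄k]] [IsReduced S] [Module.Free S Ω[S⁄k]]
    (hsurj : Function.Surjective (algebraMap P S)) : Algebra.FormallySmooth k S := by
  classical
  set I := RingHom.ker (algebraMap P S) with hI
  haveI : IsNoetherianRing S := isNoetherianRing_of_surjective P S _ hsurj
  haveI : IsLocalHom (algebraMap P S) := IsLocalHom.of_surjective _ hsurj
  -- the kernel of `S ⊗ Ω_P → Ω_S` is free
  let μ := mapBaseChange k P S
  let N : Submodule S (S ⊗[P] Ω[P⁄k]) := LinearMap.ker μ
  obtain ⟨sec, hsec⟩ := Module.projective_lifting_property μ LinearMap.id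
    (mapBaseChange_surjective k P S hsurj)
  let π : (S ⊗[P] Ω[P⁄k]) →ₗ[S] N := (LinearMap.id - sec ∘ₗ μ).codRestrict N fun z => by
    show μ (z - sec (μ z)) = 0
    rw [map_sub, show μ (sec (μ z)) = μ z from LinearMap.congr_fun hsec (μ z), sub_self]
  have hπ : ∀ n : N, π n = n := fun n => by
    refine Subtype.ext ?_
    show (n : S ⊗[P] Ω[P⁄k]) - sec (μ n) = n
    rw [show μ (n : S ⊗[P] Ω[P⁄k]) = 0 from n.2, map_zero, sub_zero]
  haveI : Module.Projective S N := Module.Projective.of_split N.subtype π (LinearMap.ext hπ)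
  haveI : Module.Finite S N := inferInstance
  haveI : Module.Free S N := Module.free_of_flat_of_isLocalRing (R := S) (P := N)
  let bN := Module.finBasis S N
  set c := Module.finrank S N
  have hN : ∀ i, ∃ x ∈ I, (1 : S) ⊗ₜ[P] D k P x = (bN i : S ⊗[P] Ω[P⁄k]) := fun i => by
    have h : ((bN i : N) : S ⊗[P] Ω[P⁄k]) ∈ LinearMap.range (kerCotangentToTensor k P S) := by
      rw [range_kerCotangentToTensor k P S hsurj]
      exact (bN i).2
    obtain ⟨z, hz⟩ := h
    obtain ⟨⟨x, hx⟩, rfl⟩ := I.toCotangent_surjective z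
    exact ⟨x, hx, hz⟩
  choose f hfI hf using hN
  have hIm : I ≤ maximalIdeal P := le_maximalIdeal (RingHom.ker_ne_top _)
  -- the differentials of the `f i` are independent at the maximal ideal
  have hind : ∀ a : Fin c → P, (∑ i, a i • D k P (f i)) ∈ maximalIdeal P • (⊤ : Submodule P Ω[P⁄k]) →
      ∀ i, a i ∈ maximalIdeal P := by
    intro a ha i
    have h1 : ((TensorProduct.mk P S Ω[P⁄k] 1) (∑ i, a i • D k P (f i))) ∈
        (maximalIdeal S • (⊤ : Submodule S (S ⊗[P] Ω[P⁄k]))).restrictScalars P := by
      refine (?_ : maximalIdeal P • (⊤ : Submodule P Ω[P⁄k]) ≤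
        ((maximalIdeal S • (⊤ : Submodule S (S ⊗[P] Ω[P⁄k]))).restrictScalars P).comap
          (TensorProduct.mk P S Ω[P⁄k] 1)) ha
      refine Submodule.smul_le.2 fun r hr w _ => ?_
      show (1 : S) ⊗ₜ[P] (r • w) ∈ (maximalIdeal S • (⊤ : Submodule S (S ⊗[P] Ω[P⁄k])))
      rw [TensorProduct.tmul_smul, ← algebraMap_smul S r ((1 : S) ⊗ₜ[P] w)]
      refine Submodule.smul_mem_smul ?_ trivial
      exact (mem_maximalIdeal _).2 fun hu => (mem_maximalIdeal _).1 hr (isUnit_of_map_unit _ _ hu)
    have h2 : (TensorProduct.mk P S Ω[P⁄k] 1) (∑ i, a i • D k P (f i)) =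
        ((∑ i, algebraMap P S (a i) • bN i : N) : S ⊗[P] Ω[P⁄k]) := by
      rw [map_sum, Submodule.coe_sum]
      refine Finset.sum_congr rfl fun j _ => ?_
      rw [map_smul, Submodule.coe_smul, algebraMap_smul, ← hf j]
      rfl
    rw [h2, Submodule.restrictScalars_mem] at h1
    have h3 := Submodule.mem_map_of_mem (f := π) h1
    rw [Submodule.map_smul'', hπ] at h3
    have h4 : bN.repr (∑ j, algebraMap P S (a j) • bN j) i ∈ maximalIdeal S := by
      refine (?_ : maximalIdeal S • Submodule.map π ⊤ ≤ Submodule.comap (bN.coord i) (maximalIdeal S)) h3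
      refine Submodule.smul_le.2 fun r hr w _ => ?_
      show bN.coord i (r • w) ∈ maximalIdeal S
      rw [map_smul, smul_eq_mul]
      exact Ideal.mul_mem_right _ _ hr
    rw [bN.repr_sum_self] at h4
    exact (mem_maximalIdeal _).2 fun hu => (mem_maximalIdeal _).1 h4 (hu.map _)
  obtain ⟨D', hD'⟩ := JacobianLib.exists_derivations (R := k) (maximalIdeal P) f hind
  have hdet : IsUnit (Matrix.det (Matrix.of fun i j => (D' j).liftKaehlerDifferential (D k P (f i)))) := by
    simp only [Derivation.liftKaehlerDifferential_comp_D]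
    exact notMem_maximalIdeal.1 hD'
  -- `P / (f)` is a regular local domain
  set J : Ideal P := Ideal.span (Set.range f) with hJ
  have hJI : J ≤ I := Ideal.span_le.2 (by rintro _ ⟨i, rfl⟩; exact hfI i)
  have hJp : J.IsPrime := by
    have hne : J ≠ ⊤ := fun h => (RingHom.ker_ne_top (algebraMap P S)) (top_le_iff.1 (h ▸ hJI))
    haveI : IsLocalRing (P ⧸ J) := RegLocal.isLocalRing_quot hne
    haveI : Algebra.FormallySmooth k (P ⧸ J) :=
      JacobianLib.formallySmooth_of_minor (R := k) (P := P) (S := P ⧸ J) Ideal.Quotient.mk_surjective f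
        Ideal.mk_ker (fun j => (D' j).liftKaehlerDifferential) hdet
    haveI : IsRegularLocalRing (P ⧸ J) := ((Groth.Agent.S2471.result (k := k)).mp fun B _ _ J' hJ' ψ _ =>
      Algebra.FormallySmooth.comp_surjective k (P ⧸ J) J' hJ' ψ).1
    haveI : IsDomain (P ⧸ J) := RegLocal.isDomain _
    exact (Ideal.Quotient.isDomain_iff_prime J).1 inferInstance
  -- differentials of elements of `I`
  have hDI : ∀ x ∈ I, ∃ a : Fin c → P, D k P x - ∑ i, a i • D k P (f i) ∈ I • (⊤ : Submodule P Ω[P⁄k]) := by
    intro x hx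
    have hxN : (1 : S) ⊗ₜ[P] D k P x ∈ N := by
      show μ ((1 : S) ⊗ₜ[P] D k P x) = 0
      rw [mapBaseChange_tmul, one_smul, map_D, show algebraMap P S x = 0 from hx, map_zero]
    choose a ha using fun i => hsurj (bN.repr ⟨_, hxN⟩ i)
    refine ⟨a, mem_smul_top_of_tmul_eq_zero hsurj ?_⟩
    have h1 := congrArg Subtype.val (bN.sum_repr ⟨_, hxN⟩)
    rw [Submodule.coe_sum] at h1
    rw [TensorProduct.tmul_sub, TensorProduct.tmul_sum, sub_eq_zero]
    refine h1.symm.trans (Finset.sum_congr rfl fun i _ => ?_)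
    rw [Submodule.coe_smul, ← ha, algebraMap_smul, TensorProduct.tmul_smul, hf]
  -- a minimal prime
  obtain ⟨η, hη⟩ := Ideal.nonempty_minimalPrimes (I := (⊥ : Ideal S)) bot_ne_top
  haveI : η.IsPrime := hη.1.1
  let Q : Ideal P := η.comap (algebraMap P S)
  have hIQ : I ≤ Q := fun x hx => by
    show algebraMap P S x ∈ η
    rw [show algebraMap P S x = 0 from hx]
    exact η.zero_mem
  let L := Localization.AtPrime Q
  haveI : Algebra.FormallySmooth P L := .of_isLocalization Q.primeCompl
  haveI : Algebra.FormallySmooth k L := .comp k P L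
  haveI : IsNoetherianRing L := IsLocalization.isNoetherianRing Q.primeCompl L inferInstance
  let K := Q.ResidueField
  haveI : Algebra.FormallySmooth k K := FieldExtLib.formallySmooth_field_of_perfectField k K
  have hLK : Function.Surjective (algebraMap L K) := IsLocalRing.residue_surjective
  set M := RingHom.ker (algebraMap L K) with hM
  obtain ⟨l, hl⟩ := (Algebra.FormallySmooth.iff_split_injection (R := k) hLK).1 inferInstance
  let Φ : Ω[P⁄k] →ₗ[P] M.Cotangent :=
    (l ∘ₗ TensorProduct.mk L K Ω[L⁄k] 1).restrictScalars P ∘ₗ KaehlerDifferential.map k k P L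
  have hMQ : M = maximalIdeal L := IsLocalRing.ker_residue
  have hxM : ∀ x ∈ Q, algebraMap P L x ∈ M := fun x hx => by
    rw [hMQ]
    exact (IsLocalization.AtPrime.to_map_mem_maximal_iff L Q x).2 hx
  have hΦ : ∀ x (hx : x ∈ Q), Φ (D k P x) = M.toCotangent ⟨algebraMap P L x, hxM x hx⟩ := fun x hx => by
    have := LinearMap.congr_fun hl (M.toCotangent ⟨algebraMap P L x, hxM x hx⟩)
    rw [LinearMap.comp_apply, kerCotangentToTensor_toCotangent, LinearMap.id_apply] at this
    rw [← this]
    simp [Φ]
  have hann : ∀ r ∈ Q, ∀ z : M.Cotangent, r • z = 0 := by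
    intro r hr z
    obtain ⟨z, rfl⟩ := M.toCotangent_surjective z
    rw [← algebraMap_smul L r (M.toCotangent z), ← map_smul, Ideal.toCotangent_eq_zero, pow_two]
    exact Ideal.mul_mem_mul (hxM r hr) z.2
  have hker : I • (⊤ : Submodule P Ω[P⁄k]) ≤ LinearMap.ker Φ :=
    Submodule.smul_le.2 fun r hr w _ => by rw [LinearMap.mem_ker, map_smul, hann r (hIQ hr)]
  -- the minimal prime is generated by `I`
  have hQI : Q.map (algebraMap P L) = I.map (algebraMap P L) := by
    refine le_antisymm (Ideal.map_le_iff_le_comap.2 fun y hy => ?_) (Ideal.map_mono hIQ)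
    haveI : Ring.KrullDimLE 0 (Localization.AtPrime η) :=
      Ring.KrullDimLE.of_isLocalization _ hη _
    letI := Ring.KrullDimLE.isField_of_isReduced (R := Localization.AtPrime η) |>.toField
    have h0 : algebraMap S (Localization.AtPrime η) (algebraMap P S y) = 0 := by
      by_contra h
      exact (IsLocalization.AtPrime.isUnit_to_map_iff (Localization.AtPrime η) η _).1 (Ne.isUnit h) hy
    obtain ⟨⟨s, hs⟩, hsy⟩ := (IsLocalization.map_eq_zero_iff η.primeCompl _ _).1 h0
    obtain ⟨s', rfl⟩ := hsurj s
    have hs' : s' ∈ Q.primeCompl := hs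
    have hm : algebraMap P L (s' * y) ∈ I.map (algebraMap P L) :=
      Ideal.mem_map_of_mem _ (show s' * y ∈ I by rw [hI, RingHom.mem_ker, map_mul]; exact hsy)
    rw [map_mul, Ideal.unit_mul_mem_iff_mem _ (IsLocalization.map_units L (⟨s', hs'⟩ : Q.primeCompl))] at hm
    exact hm
  -- Nakayama at the minimal prime
  have hle : I.map (algebraMap P L) ≤ J.map (algebraMap P L) := by
    refine Submodule.le_of_le_smul_of_le_jacobson_bot (I := M) (IsNoetherian.noetherian _)
      (by rw [hMQ, IsLocalRing.jacobson_eq_maximalIdeal _ bot_ne_top]) ?_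
    refine Ideal.map_le_iff_le_comap.2 fun x hx => ?_
    obtain ⟨a, ha⟩ := hDI x hx
    have h1 := hker ha
    rw [LinearMap.mem_ker, map_sub, map_sum, sub_eq_zero, hΦ x (hIQ hx)] at h1
    simp only [map_smul, hΦ _ (hIQ (hfI _))] at h1
    have h2 : M.toCotangent ⟨algebraMap P L x, hxM x (hIQ hx)⟩ =
        M.toCotangent (∑ i, algebraMap P L (a i) • ⟨algebraMap P L (f i), hxM _ (hIQ (hfI i))⟩) := by
      rw [h1, map_sum]
      exact Finset.sum_congr rfl fun i _ => by rw [map_smul, algebraMap_smul]
    rw [Ideal.toCotangent_eq, pow_two] at h2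
    have hMI : M = I.map (algebraMap P L) := by
      rw [← hQI, hMQ, IsLocalization.AtPrime.map_eq_maximalIdeal Q L]
    show algebraMap P L x ∈ J.map (algebraMap P L) ⊔ M • I.map (algebraMap P L)
    rw [smul_eq_mul, ← hMI]
    refine Submodule.mem_sup.2 ⟨∑ i, algebraMap P L (a i) * algebraMap P L (f i),
      sum_mem fun i _ => Ideal.mul_mem_left _ _ (Ideal.mem_map_of_mem _ (Ideal.subset_span ⟨i, rfl⟩)),
      _, h2, ?_⟩
    simp [Algebra.smul_def]
  have hIJ : I = J := by
    refine le_antisymm (fun x hx => ?_) hJI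
    obtain ⟨⟨⟨y, hy⟩, s⟩, hys⟩ := (IsLocalization.mem_map_algebraMap_iff Q.primeCompl L).1
      (hle (Ideal.mem_map_of_mem _ hx))
    rw [← map_mul] at hys
    obtain ⟨t, ht⟩ := (IsLocalization.eq_iff_exists Q.primeCompl L).1 hys
    have h1 : (t : P) * (s : P) * x ∈ J := by
      rw [show (t : P) * (s : P) * x = (t : P) * (x * (s : P)) by ring, ht]
      exact J.mul_mem_left _ hy
    refine (hJp.mem_or_mem h1).resolve_left fun h => ?_
    exact (t * s).2 ((hJI.trans hIQ) h)
  exact JacobianLib.formallySmooth_of_minor (R := k) hsurj f hIJ (fun j => (D' j).liftKaehlerDifferential) hdet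

/-- A reduced local algebra essentially of finite type over a perfect field with free differentials is
formally smooth. -/
theorem formallySmooth_of_free (k S : Type u) [Field k] [PerfectField k] [CommRing S] [IsLocalRing S]
    [Algebra k S] [Algebra.EssFiniteType k S] [IsReduced S] [Module.Free S Ω[S⁄k]] :
    Algebra.FormallySmooth k S := by
  obtain ⟨P, _, _, _, _, _, _, _, _, _, hsurj⟩ := FSmoothLocal.exists_presentation k S
  exact formallySmooth_of_surjective (P := P) hsurj

/-- A reduced algebra of finite type over a perfect field with projective differentials is smooth. -/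
theorem smooth_of_projective (k A : Type u) [Field k] [PerfectField k] [CommRing A] [Algebra k A]
    [Algebra.FiniteType k A] [IsReduced A] [Module.Projective A Ω[A⁄k]] : Algebra.Smooth k A := by
  haveI : Algebra.FinitePresentation k A := Algebra.FinitePresentation.of_finiteType.1 inferInstance
  refine ⟨Algebra.smoothLocus_eq_univ_iff.1 (Set.eq_univ_of_forall fun p => ?_), inferInstance⟩
  let S := Localization.AtPrime p.asIdeal
  show Algebra.FormallySmooth k S
  haveI : Algebra.FormallyEtale A S := .of_isLocalization p.asIdeal.primeCompl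
  haveI : Algebra.EssFiniteType A S := .of_isLocalization S p.asIdeal.primeCompl
  haveI : Algebra.EssFiniteType k S := .comp k A S
  haveI : IsReduced S := isReduced_localizationPreserves p.asIdeal.primeCompl S inferInstance
  haveI : Module.Projective S Ω[S⁄k] := .of_equiv (tensorKaehlerEquivOfFormallyEtale k A S)
  haveI : Module.Finite S Ω[S⁄k] := Module.Finite.equiv (tensorKaehlerEquivOfFormallyEtale k A S)
  haveI : Module.Free S Ω[S⁄k] := Module.free_of_flat_of_isLocalRing
  exact formallySmooth_of_free k S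

end Groth.Agent.ReducedSmoothLib

end
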